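import Mathlib
import Cfsg.Agent.H239.NX.Pat
import Cfsg.Agent.H239.NX.Compl

/-!
# S4979, layer (I): the ZERO case (helper239)
-/

set_option autoImplicit false
set_option linter.unusedSectionVars false

open scoped commutatorElement

namespace Cfsg.Agent.H239.NX

open Cfsg.Agent.H32.NX9 MulAction

section
variable {H B : Type*} [Group H] [Finite H] [MulAction H B] {m : ℕ} {N R Q : Subgroup H} {x : H → B → ZMod m}
  {κ r : ℕ}

/-- two-transitivity from three-transitivity -/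
theorem two_of_three
    (h3c : ∃ i j k : B, i ≠ j ∧ i ≠ k ∧ j ≠ k)
    (t3 : ∀ i j k i' j' k' : B, i ≠ j → i ≠ k → j ≠ k → i' ≠ j' → i' ≠ k' → j' ≠ k' →
      ∃ h : H, h • i = i' ∧ h • j = j' ∧ h • k = k') {i j i' j' : B} (hij : i ≠ j) (hij' : i' ≠ j') :
    ∃ h : H, h • i = i' ∧ h • j = j' := by
  have third : ∀ i j : B, ∃ k : B, i ≠ k ∧ j ≠ k := by
    intro i j
    obtain ⟨u, v, w, h1, h2, h3⟩ := h3c
    by_contra hcon
    push Not at hcon
    by_cases hu : i = u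
    · have h4 : j = v := hcon v (by rw [hu]; exact h1)
      have h5 : j = w := hcon w (by rw [hu]; exact h2)
      exact h3 (h4.symm.trans h5)
    · have h4 : j = u := hcon u hu
      by_cases hv : i = v
      · have h5 : j = w := hcon w (by rw [hv]; exact h3)
        exact h2 (h4.symm.trans h5)
      · exact h1 (h4.symm.trans (hcon v hv))
  obtain ⟨k, h1, h2⟩ := third i j
  obtain ⟨k', h1', h2'⟩ := third i' j'
  obtain ⟨h, h3, h4, -⟩ := t3 i j k i' j' k' hij h1 h2 hij' h1' h2'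
  exact ⟨h, h3, h4⟩

/-- an element of order dividing `r` modulo `N` with coordinates fixed by the kernel `Q` is centralised by `Q` if it
is centralised by `R` and `r` does not divide `|Q : R|` -/
theorem cent_Q (P : PM m N R x) (hN : N ≤ Subgroup.center H) (hr : r.Prime)
    (memQ : ∀ g : H, g ∈ Q ↔ ∀ i : B, g • i = i) (hidx : ¬ r ∣ R.relIndex Q) {z : H} (hz : z ∈ R)
    (hzr : z ^ r ∈ N) (hc : ∀ ρ ∈ R, ⁅z, ρ⁆ = 1) {g : H} (hg : g ∈ Q) : ⁅g, z⁆ = 1 := by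
  have hQz : ∀ g ∈ Q, ⁅g, z⁆ ∈ N := by
    intro g hg
    refine P.br_mem' hz fun i => ?_
    rw [(memQ g⁻¹).1 (inv_mem hg)]
  have h1 : ⁅g, z⁆ ^ r = 1 := by
    rw [← br_pow_right (hN (hQz g hg)), br_cen_right (hN hzr)]
  have hRn : (R.subgroupOf Q).Normal := P.nR.subgroupOf Q
  have h2 : g ^ R.relIndex Q ∈ R := by
    have h3 := Subgroup.pow_index_mem (R.subgroupOf Q) (⟨g, hg⟩ : Q)
    rw [Subgroup.mem_subgroupOf] at h3
    exact h3
  have h3 : ⁅g, z⁆ ^ R.relIndex Q = 1 := by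
    rw [← br_pow_left (hN (hQz g hg))]
    have h4 := hc _ h2
    rw [commutatorElement_eq_one_iff_mul_comm] at h4 ⊢
    exact h4.symm
  have h4 : Nat.Coprime r (R.relIndex Q) := (Nat.Prime.coprime_iff_not_dvd hr).2 hidx
  have h5 := Nat.dvd_gcd (orderOf_dvd_of_pow_eq_one h1) (orderOf_dvd_of_pow_eq_one h3)
  rw [h4.gcd_eq_one] at h5
  exact orderOf_eq_one_iff.1 (Nat.dvd_one.1 h5)

/-- The ZERO data. -/
theorem zero_data (hr : r.Prime) (P : PM m N R x) (hN : N ≤ Subgroup.center H) (E : Pat κ R x)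
    (memQ : ∀ g : H, g ∈ Q ↔ ∀ i : B, g • i = i) (hidx : ¬ r ∣ R.relIndex Q)
    (hhom : ∀ i j : B, i ≠ j → ∀ f : ↥(stabilizer H i ⊓ stabilizer H j) →* ↥(Subgroup.center H),
      (∀ q : ↥(stabilizer H i ⊓ stabilizer H j), (∀ b : B, (q : H) • b = b) → f q = 1) →
      (∀ a, f a ^ r = 1) → ∀ a, f a = 1)
    (h3c : ∃ i j k : B, i ≠ j ∧ i ≠ k ∧ j ≠ k)
    (t3 : ∀ i j k i' j' k' : B, i ≠ j → i ≠ k → j ≠ k → i' ≠ j' → i' ≠ k' → j' ≠ k' →
      ∃ h : H, h • i = i' ∧ h • j = j' ∧ h • k = k')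
    {s : ZMod m} (hs : ∃ i j : B, i ≠ j ∧ ∃ z ∈ R, IsZ x i j s z)
    (hrs : (r : ZMod m) * (((2 * κ ^ 2 : ℕ) : ZMod m) * s) = 0) :
    ∃ y : B → B → H, (∀ i j, i ≠ j → y i j ∈ R) ∧
      (∀ i j, i ≠ j → IsZ x i j (((2 * κ ^ 2 : ℕ) : ZMod m) * s) (y i j)) ∧
      (∀ i j k l, i ≠ j → k ≠ l → y i j * y k l = y k l * y i j) ∧
      (∀ (h : H) (i j : B), i ≠ j → h * y i j * h⁻¹ = y (h • i) (h • j)) ∧
      (∀ i j, i ≠ j → y i j * y j i = 1) ∧
      (∀ i j k, i ≠ j → i ≠ k → j ≠ k → y i j * y j k = y i k) ∧ ∀ i j, i ≠ j → y i j ^ r = 1 := by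
  classical
  set t : ZMod m := ((2 * κ ^ 2 : ℕ) : ZMod m) * s with ht
  have hs' : ∀ i j : B, i ≠ j → ∃ z ∈ R, IsZ x i j s z := by
    intro i j hij
    obtain ⟨i0, j0, hij0, z, hz, h⟩ := hs
    obtain ⟨g, h1, h2⟩ := two_of_three (H := H) h3c t3 hij0 hij
    have h3 := P.isZ_conj hz h g
    rw [h1, h2] at h3
    exact ⟨_, P.cmem g hz, h3⟩
  have hz : ∀ i j : B, ∃ z : H, i ≠ j → z ∈ R ∧ IsZ x i j t z := by
    intro i j
    by_cases hij : i = j
    · exact ⟨1, fun h => absurd hij h⟩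
    · obtain ⟨z, hz, h⟩ := hs' i j hij
      exact ⟨z ^ (2 * κ ^ 2), fun _ => ⟨pow_mem hz _, P.isZ_pow hz h _⟩⟩
  choose z hz using hz
  have zR : ∀ i j, i ≠ j → z i j ∈ R := fun i j hij => (hz i j hij).1
  have zZ : ∀ i j, i ≠ j → IsZ x i j t (z i j) := fun i j hij => (hz i j hij).2
  have zc : ∀ i j, i ≠ j → ∀ ρ ∈ R, ⁅z i j, ρ⁆ = 1 := fun i j hij ρ hρ =>
    E.cent P hN hij (hs' i j hij) (zR i j hij) (zZ i j hij) hρ
  -- powers
  have hpow : ∀ i j, i ≠ j → z i j ^ r ∈ N := by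
    intro i j hij
    refine P.ker _ (pow_mem (zR i j hij) r) fun b => ?_
    rw [P.pow (zR i j hij)]
    by_cases b1 : b = i
    · rw [b1, (zZ i j hij).1, hrs]
    · by_cases b2 : b = j
      · rw [b2, (zZ i j hij).2.1, mul_neg, hrs, neg_zero]
      · rw [(zZ i j hij).2.2 b b1 b2, mul_zero]
  have zQ : ∀ i j, i ≠ j → ∀ g ∈ Q, ⁅g, z i j⁆ = 1 := fun i j hij g hg =>
    cent_Q P hN hr memQ hidx (zR i j hij) (hpow i j hij) (zc i j hij) hg
  -- the stabilizer of two points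
  have hcent : ∀ (h : H) (i j : B), i ≠ j → h • i = i → h • j = j → h * z i j = z i j * h := by
    intro h i j hij hi hj
    have hmem : ∀ g : ↥(stabilizer H i ⊓ stabilizer H j), ⁅(g : H), z i j⁆ ∈ Subgroup.center H := by
      intro g
      apply hN
      rw [commutatorElement_def]
      have g1 : (g : H) • i = i := g.2.1
      have g2 : (g : H) • j = j := g.2.2
      have g3 := P.isZ_conj (zR i j hij) (zZ i j hij) (g : H)
      rw [g1, g2] at g3
      refine P.ker _ (mul_mem (P.cmem _ (zR i j hij)) (inv_mem (zR i j hij))) fun b => ?_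
      rw [P.mul _ (P.cmem _ (zR i j hij)) _ (inv_mem (zR i j hij)), P.inv (zR i j hij),
        PM.isZ_eq g3 (zZ i j hij) b, add_neg_cancel]
    let f : ↥(stabilizer H i ⊓ stabilizer H j) →* ↥(Subgroup.center H) :=
      MonoidHom.mk' (fun g => ⟨⁅(g : H), z i j⁆, hmem g⟩) fun a b => by
        apply Subtype.ext
        change ⁅((a * b : ↥(stabilizer H i ⊓ stabilizer H j)) : H), z i j⁆ = ⁅(a : H), z i j⁆ * ⁅(b : H), z i j⁆
        rw [Subgroup.coe_mul, br_mul_left (hmem b)]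
    have h1 := hhom i j hij f (fun q hq => Subtype.ext (zQ i j hij _ ((memQ _).2 hq))) (fun a => by
      apply Subtype.ext
      change ⁅(a : H), z i j⁆ ^ r = 1
      rw [← br_pow_right (hmem a), br_cen_right (hN (hpow i j hij)), ]) ⟨h, hi, hj⟩
    have h2 : ⁅h, z i j⁆ = 1 := congrArg Subtype.val h1
    exact commutatorElement_eq_one_iff_mul_comm.1 h2
  -- the abelian group
  let Y : Subgroup H := R ⊓ Subgroup.centralizer (R : Set H)
  have hYab : ∀ a ∈ Y, ∀ b ∈ Y, a * b = b * a := fun a ha b hb =>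
    (Subgroup.mem_centralizer_iff.1 ha.2 b hb.1).symm
  have hNY : N ≤ Y := fun n hn => ⟨P.NR hn, Subgroup.mem_centralizer_iff.2 fun a _ =>
    Subgroup.mem_center_iff.1 (hN hn) a⟩
  have hzY : ∀ i j, i ≠ j → z i j ∈ Y := fun i j hij => ⟨zR i j hij, Subgroup.mem_centralizer_iff.2 fun a ha =>
    (commutatorElement_eq_one_iff_mul_comm.1 (zc i j hij a ha)).symm⟩
  have hinv : ∀ i j, i ≠ j → z i j * z j i ∈ N := by
    intro i j hij
    have e1 := P.isZ_inv (zR j i hij.symm) (zZ j i hij.symm)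
    refine P.ker _ (mul_mem (zR i j hij) (zR j i hij.symm)) fun b => ?_
    have e2 := PM.isZ_eq (zZ i j hij) e1 b
    rw [P.mul _ (zR i j hij) _ (zR j i hij.symm), e2, P.inv (zR j i hij.symm), neg_add_cancel]
  have hmul : ∀ i j k, i ≠ j → i ≠ k → j ≠ k → z i j * z j k * (z i k)⁻¹ ∈ N := by
    intro i j k hij hik hjk
    have m1 := mul_mem (zR i j hij) (zR j k hjk)
    refine P.ker _ (mul_mem m1 (inv_mem (zR i k hik))) fun b => ?_
    rw [P.mul _ m1 _ (inv_mem (zR i k hik)), P.mul _ (zR i j hij) _ (zR j k hjk), P.inv (zR i k hik)]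
    obtain ⟨a1, a2, a3⟩ := zZ i j hij
    obtain ⟨b1, b2, b3⟩ := zZ j k hjk
    obtain ⟨c1, c2, c3⟩ := zZ i k hik
    by_cases e1 : b = i
    · rw [e1, a1, b3 i hij hik, c1]; ring
    · by_cases e2 : b = j
      · rw [e2, a2, b1, c3 j hij.symm hjk]; ring
      · by_cases e3 : b = k
        · rw [e3, a3 k hik.symm hjk.symm, b2, c2]; ring
        · rw [a3 b e1 e2, b3 b e2 e3, c3 b e1 e3]; ring
  have hconj : ∀ (h : H) (i j : B), i ≠ j → h * z i j * h⁻¹ * (z (h • i) (h • j))⁻¹ ∈ N := by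
    intro h i j hij
    have hij' : h • i ≠ h • j := fun h' => hij (smul_left_cancel h h')
    have e1 := P.isZ_conj (zR i j hij) (zZ i j hij) h
    refine P.ker _ (mul_mem (P.cmem h (zR i j hij)) (inv_mem (zR _ _ hij'))) fun b => ?_
    rw [P.mul _ (P.cmem h (zR i j hij)) _ (inv_mem (zR _ _ hij')), P.inv (zR _ _ hij'),
      PM.isZ_eq e1 (zZ _ _ hij') b, add_neg_cancel]
  obtain ⟨y, y1, y2, y3, y4, y5⟩ := complement N Y hN hYab hNY r z hzY hinv hmul hpow hconj hcent h3c t3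
  have hyz : ∀ i j, i ≠ j → ∃ n ∈ N, y i j = z i j * n := by
    intro i j hij
    refine ⟨y i j * (z i j)⁻¹, y1 i j hij, ?_⟩
    rw [Subgroup.mem_center_iff.1 (hN (y1 i j hij)) (z i j), inv_mul_cancel_right]
  refine ⟨y, fun i j hij => ?_, fun i j hij => ?_, fun i j k l hij hkl => ?_, y2, y3, y4, y5⟩
  · obtain ⟨n, hn, h⟩ := hyz i j hij
    rw [h]
    exact mul_mem (zR i j hij) (P.NR hn)
  · obtain ⟨n, hn, h⟩ := hyz i j hij
    have e1 : ∀ b, x (y i j) b = x (z i j) b := by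
      intro b
      rw [h, P.mul _ (zR i j hij) _ (P.NR hn), P.kerN n hn, add_zero]
    obtain ⟨a1, a2, a3⟩ := zZ i j hij
    exact ⟨by rw [e1, a1], by rw [e1, a2], fun k h1 h2 => by rw [e1, a3 k h1 h2]⟩
  · obtain ⟨n, hn, h⟩ := hyz i j hij
    obtain ⟨n', hn', h'⟩ := hyz k l hkl
    have e1 : y i j ∈ Y := by rw [h]; exact mul_mem (hzY i j hij) (hNY hn)
    have e2 : y k l ∈ Y := by rw [h']; exact mul_mem (hzY k l hkl) (hNY hn')
    exact hYab _ e1 _ e2

end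

end Cfsg.Agent.H239.NX
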