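import Mathlib
import Cfsg.Agent.H239.NX.Zero
import Cfsg.Agent.H239.NX.Cent
import Cfsg.Agent.H912.NX.Lab

/-!
# S4979, layer (I): the permutation module case, alternating action (helper239)
-/

set_option autoImplicit false
set_option linter.unusedSectionVars false

open scoped commutatorElement Pointwise

namespace Cfsg.Agent.H239.NX

open Cfsg.Agent.H32.NX9 MulAction

universe u

section
variable {p q : ℕ} {H V : Type u} {B : Type*} [Group H] [Finite H] [AddCommGroup V] [Finite V] [DistribMulAction H V]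
  [Finite B] [MulAction H B] {W : B → AddSubgroup V} {K N Q : Subgroup H} {φ : N →* ℂˣ}

/-- the two-point stabilizers have no homomorphisms onto `r`-groups -/
theorem alt_hom_two {H B : Type*} [Group H] [MulAction H B] [Finite B] (hA : IsAlt H B)
    {r : ℕ} (hr : r.Prime) (hn : r ≠ 3 ∨ 7 ≤ Nat.card B) {A : Type*} [Group A]
    (hcA : ∀ a b : A, a * b = b * a) {i j : B}
    (f : ↥(stabilizer H i ⊓ stabilizer H j) →* A)
    (hf : ∀ q : ↥(stabilizer H i ⊓ stabilizer H j), (∀ b : B, (q : H) • b = b) → f q = 1)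
    (hrA : ∀ g, ∃ k : ℕ, f g ^ r ^ k = 1) (g : ↥(stabilizer H i ⊓ stabilizer H j)) : f g = 1 := by
  classical
  refine alt_hom hA hr (M := stabilizer H i ⊓ stabilizer H j) (F := fun b => b = i ∨ b = j)
    (fun g => ?_) (hn.imp_right fun h => card_compl_two i j (by omega)) hcA f hf hrA g
  rw [Subgroup.mem_inf, mem_stabilizer_iff, mem_stabilizer_iff]
  constructor
  · rintro ⟨h1, h2⟩ b (rfl | rfl)
    · exact h1
    · exact h2
  · intro h1
    exact ⟨h1 i (Or.inl rfl), h1 j (Or.inr rfl)⟩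

/-- From an element of the right order in the group of differences to the contradiction. -/
theorem zero_end (I : ImpC (V := V) p q W K N Q φ) {r m κ : ℕ} (hr : r.Prime)
    {R : Subgroup H} {x : H → B → ZMod m} (P : PM m N R x) (E : Pat κ R x) (hRQ : R ≤ Q)
    (hidx : ¬ r ∣ R.relIndex Q)
    (hhom : ∀ i j : B, i ≠ j → ∀ f : ↥(stabilizer H i ⊓ stabilizer H j) →* ↥(Subgroup.center H),
      (∀ q : ↥(stabilizer H i ⊓ stabilizer H j), (∀ b : B, (q : H) • b = b) → f q = 1) →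
      (∀ a, f a ^ r = 1) → ∀ a, f a = 1)
    (htriv : ∀ ρ ∈ R, ∀ i, x ρ i = 0 → ∀ w ∈ W i, ρ • w = w) {s : ZMod m}
    (hs : ∃ i j : B, i ≠ j ∧ ∃ z ∈ R, IsZ x i j s z)
    (hrs : (r : ZMod m) * (((2 * κ ^ 2 : ℕ) : ZMod m) * s) = 0)
    (hs0 : ((2 * κ ^ 2 : ℕ) : ZMod m) * s ≠ 0) : False := by
  obtain ⟨y, y1, y2, y3, y4, y5, y6, y7⟩ := zero_data hr P I.core.cen E I.memQ hidx hhom (ImpC_three I)
    I.t3 hs hrs
  refine Cfsg.Agent.H912.NX.zero_false I hr y (fun i j hij => hRQ (y1 i j hij)) (fun i j hij hN => ?_)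
    (fun i j k hij hki hkj w hw => ?_) y3 y4 y5 y6 y7
  · have h1 := P.kerN _ hN i
    rw [(y2 i j hij).1] at h1
    exact hs0 h1
  · exact htriv _ (y1 i j hij) k ((y2 i j hij).2.2 k hki hkj) w hw

/-- The permutation module case. -/
theorem perm_false (I : ImpC (V := V) p q W K N Q φ) (hA : IsAlt H B)
    (hn : (p = 3 ∧ Nat.card B = 5) ∨ 8 ≤ Nat.card B) {r a : ℕ} (hr : r.Prime) (hr2 : r ≠ 2) (hrp : r ≠ p)
    (trQ : ∀ i, ∀ u ∈ W i, ∀ w ∈ W i, u ≠ 0 → w ≠ 0 → ∃ g ∈ Q, g • u = w)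
    {R : Subgroup H} {x : H → B → ZMod (r ^ a)} (P : PM (r ^ a) N R x) (hRQ : R ≤ Q)
    (hidx : ¬ r ∣ R.relIndex Q) (hne : ∃ ρ ∈ R, ∃ i, x ρ i ≠ 0)
    (htriv : ∀ ρ ∈ R, ∀ i, x ρ i = 0 → ∀ w ∈ W i, ρ • w = w) : False := by
  by_cases hconst : ∀ ρ ∈ R, ∀ i j, x ρ i = x ρ j
  · exact cent_false I hA hn hr hrp trQ P hRQ hidx hne hconst
  push Not at hconst
  obtain ⟨ρ, hρ, i, j, hxij⟩ := hconst
  have hij : i ≠ j := by
    rintro rfl
    exact hxij rfl
  have hN := I.core.cen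
  obtain ⟨κ, E, hκ⟩ : ∃ κ : ℕ, Pat κ R x ∧ Nat.Coprime r κ := by
    rcases hn with ⟨h3, h5⟩ | h8
    · refine ⟨3, alt_pat_three hA h5.ge P hN, (Nat.coprime_primes hr Nat.prime_three).2 ?_⟩
      rw [← h3]
      exact hrp
    · exact ⟨2, alt_pat_two hA (by omega) P hN, (Nat.coprime_primes hr Nat.prime_two).2 hr2⟩
  have hr3 : r ≠ 3 ∨ 7 ≤ Nat.card B := by
    rcases hn with ⟨h3, h5⟩ | h8
    · left
      rw [← h3]
      exact hrp
    · right
      omega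
  have hu1 : IsUnit ((κ : ℕ) : ZMod (r ^ a)) := by
    rw [ZMod.isUnit_iff_coprime]
    exact (Nat.Coprime.pow_left a hκ).symm
  have hu2 : IsUnit ((2 * κ ^ 2 : ℕ) : ZMod (r ^ a)) := by
    rw [ZMod.isUnit_iff_coprime]
    refine (Nat.Coprime.pow_left a (Nat.Coprime.mul_right ?_ (Nat.Coprime.pow_right 2 hκ))).symm
    exact (Nat.coprime_primes hr Nat.prime_two).2 hr2
  obtain ⟨z, hz, hz1⟩ := E.avg ρ hρ i j hij
  set s0 : ZMod (r ^ a) := (κ : ZMod (r ^ a)) * (x ρ i - x ρ j) with hs0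
  have hs0' : s0 ≠ 0 := fun h => hxij (sub_eq_zero.1 ((IsUnit.mul_right_eq_zero hu1).1 h))
  -- the power
  have hex : ∃ b : ℕ, (r : ZMod (r ^ a)) ^ b * s0 = 0 := by
    refine ⟨a, ?_⟩
    rw [← Nat.cast_pow, ZMod.natCast_self, zero_mul]
  classical
  set b := Nat.find hex with hb
  have hb1 : (r : ZMod (r ^ a)) ^ b * s0 = 0 := Nat.find_spec hex
  have hb0 : b ≠ 0 := by
    intro h0
    rw [h0, pow_zero, one_mul] at hb1
    exact hs0' hb1
  have hb2 : (r : ZMod (r ^ a)) ^ (b - 1) * s0 ≠ 0 := Nat.find_min hex (by omega)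
  refine zero_end I hr P E hRQ hidx (fun i j hij f hf hf' g => ?_) htriv (s := (r : ZMod (r ^ a)) ^ (b - 1) * s0)
    ⟨i, j, hij, z ^ r ^ (b - 1), pow_mem hz _, ?_⟩ ?_ ?_
  · have hf1 : ∀ c, ∃ k : ℕ, f c ^ r ^ k = 1 := fun c => ⟨1, by rw [pow_one]; exact hf' c⟩
    exact alt_hom_two hA hr hr3
      (fun a b => Subtype.ext (Subgroup.mem_center_iff.1 b.2 a)) f hf hf1 g
  · have h1 := P.isZ_pow hz hz1 (r ^ (b - 1))
    rwa [Nat.cast_pow] at h1
  · rw [mul_left_comm, ← mul_assoc (r : ZMod (r ^ a)), ← pow_succ', Nat.sub_add_cancel (by omega), hb1, mul_zero]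
  · intro h
    exact hb2 ((IsUnit.mul_right_eq_zero hu2).1 h)

end

end Cfsg.Agent.H239.NX
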